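import Groth.Agent.Sga67.BlowReg
import Groth.Agent.OmegaSh.K583.UnivAffine
import Groth.Agent.Ega1.ClosedKill
import Groth.Agent.Pi1C.ZeroScheme

/-!
# The exceptional ideal kills the relative differentials of a blow-up

For a blow-up `b : X' ⟶ X` of an ideal sheaf `I` and a universal derivation `d : O_{X'} ⟶ Ω` over `X`:
`I O_{X'} · Ω = 0`.
-/

set_option autoImplicit false

universe u

open CategoryTheory CategoryTheory.Limits AlgebraicGeometry TopologicalSpace Opposite
open K583.AlgUniv K583.UnivAffine K583.DerAffine OmegaSh BlowUp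
open Groth.Agent Groth.Agent.Divis Groth.Agent.Divis.BlowChart Groth.Agent.Fdesc.LocGen

namespace K343.BlowKill

section Alg

/-- If `B` is generated over `A` by elements `s` with `a s ∈ A` then `a` kills the differentials. -/
theorem smul_eq_zero_of_gen {A B M : Type u} [CommRing A] [CommRing B] [AddCommGroup M]
    [Module B M] {φ : A →+* B} {δ : B →+ M} (h : IsAlgUniv φ δ) (a : A) (S : Set B)
    (hS : Subring.closure (Set.range φ ∪ S) = ⊤) (hSa : ∀ s ∈ S, ∃ x, φ a * s = φ x) (m : M) :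
    φ a • m = 0 := by
  have h1 : ∀ q : B, φ a • δ q = 0 := by
    intro q
    have hq : q ∈ Subring.closure (Set.range φ ∪ S) := by rw [hS]; trivial
    induction hq using Subring.closure_induction with
    | mem x hx =>
      rcases hx with ⟨y, rfl⟩ | hx
      · rw [h.zero, smul_zero]
      · obtain ⟨y, hy⟩ := hSa x hx
        have h2 := h.leibniz (φ a) x
        rw [hy, h.zero, h.zero, smul_zero, add_zero] at h2
        exact h2.symm
    | zero => rw [map_zero, smul_zero]
    | one =>
      have : (1 : B) = φ 1 := (map_one φ).symm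
      rw [this, h.zero, smul_zero]
    | add x y _ _ hx hy => rw [map_add, smul_add, hx, hy, add_zero]
    | neg x _ hx => rw [map_neg, smul_neg, hx, neg_zero]
    | mul x y _ _ hx hy =>
      rw [h.leibniz, smul_add, smul_smul, smul_smul, mul_comm (φ a) x, mul_comm (φ a) y,
        ← smul_smul, ← smul_smul, hx, hy, smul_zero, smul_zero, add_zero]
  have h2 : m ∈ Submodule.span B (Set.range δ) := by rw [h.span_eq_top]; trivial
  induction h2 using Submodule.span_induction with
  | mem x hx =>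
    obtain ⟨q, rfl⟩ := hx
    exact h1 q
  | zero => rw [smul_zero]
  | add x y _ _ hx hy => rw [smul_add, hx, hy, add_zero]
  | smul r x _ hx => rw [smul_comm, hx, smul_zero]

/-- The affine blow-up algebra is generated by the fractions `x / a`. -/
theorem closure_affineAlgebra {A : Type u} [CommRing A] (I : Ideal A) (a : A) :
    Subring.closure (Set.range (algebraMap A (affineAlgebra A I a)) ∪
      {q | ∃ x ∈ I, algebraMap A (affineAlgebra A I a) a * q =
        algebraMap A (affineAlgebra A I a) x}) = ⊤ := by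
  rw [eq_top_iff]
  rintro ⟨q, hq⟩ -
  refine Algebra.adjoin_induction (p := fun q hq => (⟨q, hq⟩ : affineAlgebra A I a) ∈
    Subring.closure (Set.range (algebraMap A (affineAlgebra A I a)) ∪
      {q | ∃ x ∈ I, algebraMap A (affineAlgebra A I a) a * q =
        algebraMap A (affineAlgebra A I a) x})) ?_ ?_ ?_ ?_ hq
  · rintro y ⟨x, hx, rfl⟩
    refine Subring.subset_closure (Or.inr ⟨x, hx, ?_⟩)
    apply Subtype.ext
    change algebraMap A (Localization.Away a) a * IsLocalization.mk' _ _ _ =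
      algebraMap A (Localization.Away a) x
    exact IsLocalization.mk'_spec' _ _ (⟨a, Submonoid.mem_powers a⟩ : Submonoid.powers a)
  · intro r
    exact Subring.subset_closure (Or.inl ⟨r, rfl⟩)
  · intro x y hx hy h1 h2
    exact Subring.add_mem _ h1 h2
  · intro x y hx hy h1 h2
    exact Subring.mul_mem _ h1 h2

theorem closure_map_equiv {B C : Type*} [CommRing B] [CommRing C] (e : B ≃+* C) (S : Set B)
    (hS : Subring.closure S = ⊤) : Subring.closure (e '' S) = ⊤ := by
  have := RingHom.map_closure (e : B →+* C) S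
  rw [hS] at this
  rw [show (e '' S) = ((e : B →+* C) '' S) from rfl, ← this]
  rw [eq_top_iff]
  intro c _
  exact ⟨e.symm c, trivial, e.apply_symm_apply c⟩

end Alg

section Geo

variable {X X' : Scheme.{u}}

theorem appLE_fromSpec {V : X.Opens} (hV : IsAffineOpen V)
    (e : ⊤ ≤ hV.fromSpec ⁻¹ᵁ V) :
    hV.fromSpec.appLE V ⊤ e = (Scheme.ΓSpecIso Γ(X, V)).inv := by
  rw [Scheme.Hom.appLE, IsAffineOpen.fromSpec_app_self, Category.assoc, ← Functor.map_comp]
  have h0 : ∀ g : Opposite.op (⊤ : (Spec Γ(X, V)).Opens) ⟶ Opposite.op ⊤,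
    (Spec Γ(X, V)).presheaf.map g = 𝟙 _ := fun g => by
      rw [Subsingleton.elim g (𝟙 _), CategoryTheory.Functor.map_id]
  rw [h0, Category.comp_id]

/-- The ring isomorphism of an affine chart. -/
theorem exists_ringEquiv {B : Type u} [CommRing B] {f : X' ⟶ X} {V : X.Opens}
    (hV : IsAffineOpen V) (φ : Γ(X, V) →+* B)
    (c : Spec (CommRingCat.of B) ⟶ X') [IsOpenImmersion c]
    (hc : c ≫ f = Spec.map (CommRingCat.ofHom φ) ≫ hV.fromSpec) :
    ∃ (e : c.opensRange ≤ f ⁻¹ᵁ V) (σ : B ≃+* Γ(X', c.opensRange)),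
      ∀ x, σ (φ x) = f.appLE V c.opensRange e x := by
  have e : c.opensRange ≤ f ⁻¹ᵁ V := by
    rintro _ ⟨y, rfl⟩
    change f (c y) ∈ V
    rw [← Scheme.Hom.comp_apply, hc, Scheme.Hom.comp_apply]
    have h1 : hV.fromSpec (Spec.map (CommRingCat.ofHom φ) y) ∈ Set.range hV.fromSpec := ⟨_, rfl⟩
    rwa [hV.range_fromSpec] at h1
  have e0 : (⊤ : (Spec (CommRingCat.of B)).Opens) ≤ c ⁻¹ᵁ c.opensRange := fun y _ => ⟨y, rfl⟩
  have hIso : IsIso (c.appLE c.opensRange ⊤ e0) := by
    have h1 : c.appLE c.opensRange ⊤ e0 = X'.presheaf.map (eqToHom c.image_top_eq_opensRange).op ≫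
        (c.appIso ⊤).hom := by
      rw [Scheme.Hom.appIso_hom', Scheme.Hom.map_appLE]
    rw [h1]
    infer_instance
  let σ' : Γ(X', c.opensRange) ≅ CommRingCat.of B :=
    asIso (c.appLE c.opensRange ⊤ e0) ≪≫ Scheme.ΓSpecIso (CommRingCat.of B)
  refine ⟨e, σ'.commRingCatIsoToRingEquiv.symm, fun x => ?_⟩
  rw [RingEquiv.symm_apply_eq]
  have h2 : f.appLE V c.opensRange e ≫ c.appLE c.opensRange ⊤ e0 =
      CommRingCat.ofHom φ ≫ (Scheme.ΓSpecIso (CommRingCat.of B)).inv := by
    rw [Scheme.Hom.appLE_comp_appLE]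
    have h4 : ∀ (g : Spec (CommRingCat.of B) ⟶ X)
        (_ : g = Spec.map (CommRingCat.ofHom φ) ≫ hV.fromSpec) (e' : ⊤ ≤ g ⁻¹ᵁ V),
        g.appLE V ⊤ e' = CommRingCat.ofHom φ ≫ (Scheme.ΓSpecIso (CommRingCat.of B)).inv := by
      rintro _ rfl e'
      rw [← Scheme.Hom.appLE_comp_appLE _ _ V ⊤ ⊤ (by rw [hV.fromSpec_preimage_self]) le_top,
        appLE_fromSpec hV, Scheme.ΓSpecIso_inv_naturality]
      congr 1
    exact h4 _ hc _
  have h5 : σ'.commRingCatIsoToRingEquiv (f.appLE V c.opensRange e x) =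
      (Scheme.ΓSpecIso (CommRingCat.of B)).hom (c.appLE c.opensRange ⊤ e0
        (f.appLE V c.opensRange e x)) := rfl
  rw [h5]
  have h6 := congr($h2 x)
  rw [CommRingCat.comp_apply, CommRingCat.comp_apply] at h6
  rw [h6]
  have h7 := congr($((Scheme.ΓSpecIso (CommRingCat.of B)).inv_hom_id) (φ x))
  rw [CommRingCat.comp_apply] at h7
  exact h7.symm

open Groth.Agent.Pi1C.ZeroScheme in
/-- `Kills` can be checked on an affine cover. -/
theorem kills_of_cover {J : X.IdealSheafData} {F : X.Modules} (hF : Coh.IsQCoh F)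
    (H : ∀ x : X, ∃ V : X.affineOpens, x ∈ V.1 ∧ ∀ a ∈ J.ideal V, ∀ s : Γ(F, V.1), a • s = 0) :
    Ega1.ClosedKill.Kills J F := by
  intro U a ha s
  refine K583.DerAffine.eq_of_locally F (fun x hx => ?_)
  obtain ⟨V, hxV, hV⟩ := H x
  obtain ⟨f, g, hfg, hxf⟩ := exists_basicOpen_le_affine_inter U.2 V.2 x ⟨hx, hxV⟩
  refine ⟨X.basicOpen f, X.basicOpen_le f, hxf, ?_⟩
  have key : ∀ (W : X.Opens) (hW : W = X.basicOpen g) (hWU : W ≤ U.1)
      (haW : X.presheaf.map (homOfLE hWU).op a ∈
        (J.ideal V).map (X.presheaf.map (homOfLE (hW.le.trans (X.basicOpen_le g))).op).hom),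
      F.presheaf.map (homOfLE hWU).op (a • s) = 0 := by
    rintro W rfl hWU haW
    have h1 : F.presheaf.map (homOfLE hWU).op (a • s) = X.presheaf.map (homOfLE hWU).op a •
        F.presheaf.map (homOfLE hWU).op s := Scheme.Modules.map_smul F _ _ _
    rw [h1]
    obtain ⟨n, m, hm⟩ := exists_res_eq hF V.2 g (F.presheaf.map (homOfLE hWU).op s)
    have hu := (isUnit_ores_basicOpen g).pow n
    have key2 : ∀ c ∈ (J.ideal V).map (X.presheaf.map (homOfLE (X.basicOpen_le g)).op).hom,
        c • F.presheaf.map (homOfLE hWU).op s = 0 := by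
      intro c hc
      induction hc using Submodule.span_induction with
      | mem c hc =>
        obtain ⟨b, hb, rfl⟩ := hc
        apply hu.smul_eq_zero.mp
        rw [smul_comm]
        have h2 : (ores (X.basicOpen_le g) g) ^ n • F.presheaf.map (homOfLE hWU).op s =
          res F (X.basicOpen_le g) m := hm.symm
        rw [h2]
        have h3 : res F (X.basicOpen_le g) (b • m) =
          X.presheaf.map (homOfLE (X.basicOpen_le g)).op b • res F (X.basicOpen_le g) m :=
            Scheme.Modules.map_smul F _ _ _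
        refine h3.symm.trans ?_
        rw [hV b hb, map_zero]
      | zero => rw [zero_smul]
      | add c c' _ _ h h' => rw [add_smul, h, h', add_zero]
      | smul r c _ h => rw [smul_eq_mul, mul_smul, h, smul_zero]
    exact key2 _ haW
  rw [map_zero]
  refine key (X.basicOpen f) hfg _ ?_
  have h1 : X.presheaf.map (homOfLE (X.basicOpen_le f)).op a ∈ J.ideal (X.affineBasicOpen f) := by
    rw [← J.map_ideal_basicOpen U f]
    exact Ideal.mem_map_of_mem _ ha
  have h2 : ∀ (W : X.affineOpens) (hW : W = X.affineBasicOpen g)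
      (t : Γ(X, W.1)) (ht : t ∈ J.ideal W)
      (e : W.1 ≤ V.1), t ∈ (J.ideal V).map (X.presheaf.map (homOfLE e).op).hom := by
    rintro W rfl t ht e
    rw [← J.map_ideal_basicOpen V g] at ht
    exact ht
  exact h2 (X.affineBasicOpen f) (Subtype.ext hfg) _ h1 _

/-- **The exceptional ideal kills the relative differentials of a blow-up.** -/
theorem kills {I : X.IdealSheafData} {b : X' ⟶ X} (hb : IsBlowUp b I) {Ω : X'.Modules}
    {d : Der b Ω} (hd : IsUniversal d) : Ega1.ClosedKill.Kills (I.comap b) Ω := by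
  refine kills_of_cover (isQuasicoherent_of_isUniversal hd) (fun x' => ?_)
  obtain ⟨_, ⟨V, hV, rfl⟩, hxV, -⟩ :=
    X.isBasis_affineOpens.exists_subset_of_mem_open (Set.mem_univ (b x')) isOpen_univ
  obtain ⟨a, ha, c, hc, q, hq, hcb⟩ := Sga67.BlowCover.exists_chart hb ⟨V, hV⟩
    (I.ideal ⟨V, hV⟩ : Set _) (Ideal.span_eq _).symm x' hxV
  obtain ⟨e, σ, hσ⟩ := exists_ringEquiv hV _ c hcb
  have hW : IsAffineOpen c.opensRange := isAffineOpen_opensRange c
  refine ⟨⟨c.opensRange, hW⟩, ⟨q, hq⟩, ?_⟩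
  have hu := isAlgUniv_app hd hW hV e
  have h1 : ∀ m : Γ(Ω, c.opensRange), b.appLE V c.opensRange e a • m = 0 := by
    refine smul_eq_zero_of_gen hu a (σ '' {q | ∃ x ∈ I.ideal ⟨V, hV⟩,
      algebraMap Γ(X, V) (affineAlgebra Γ(X, V) (I.ideal ⟨V, hV⟩) a) a * q =
        algebraMap Γ(X, V) (affineAlgebra Γ(X, V) (I.ideal ⟨V, hV⟩) a) x}) ?_ ?_
    · have h2 := closure_map_equiv σ _ (closure_affineAlgebra (I.ideal ⟨V, hV⟩) a)
      rw [Set.image_union] at h2
      convert h2 using 3
      rw [← Set.range_comp]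
      congr 1
      funext x
      exact (hσ x).symm
    · rintro _ ⟨q, ⟨x, hx, hq⟩, rfl⟩
      refine ⟨x, ?_⟩
      have h3 := congrArg σ hq
      rw [map_mul] at h3
      exact ((congrArg (· * σ q) (hσ a)).symm.trans h3).trans (hσ x)
  intro t ht m
  rw [IdealComap.ideal_comap I b ⟨V, hV⟩ ⟨c.opensRange, hW⟩ e] at ht
  induction ht using Submodule.span_induction with
  | mem t ht =>
    obtain ⟨x, hx, rfl⟩ := ht
    have h2 : ∃ q : affineAlgebra Γ(X, V) (I.ideal ⟨V, hV⟩) a,
        algebraMap Γ(X, V) (affineAlgebra Γ(X, V) (I.ideal ⟨V, hV⟩) a) a * q =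
          algebraMap Γ(X, V) (affineAlgebra Γ(X, V) (I.ideal ⟨V, hV⟩) a) x := by
      refine ⟨⟨IsLocalization.mk' (Localization.Away a) x ⟨a, Submonoid.mem_powers a⟩,
        Algebra.subset_adjoin ⟨x, hx, rfl⟩⟩, Subtype.ext ?_⟩
      exact IsLocalization.mk'_spec' _ _ (⟨a, Submonoid.mem_powers a⟩ : Submonoid.powers a)
    obtain ⟨q, hq⟩ := h2
    have h3 := congrArg σ hq
    rw [map_mul] at h3
    have h4 : b.appLE V c.opensRange e x = σ q * b.appLE V c.opensRange e a :=
      ((hσ x).symm.trans h3.symm).trans ((congrArg (· * σ q) (hσ a)).trans (mul_comm _ _))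
    change b.appLE V c.opensRange e x • m = 0
    rw [h4, mul_smul, h1, smul_zero]
  | zero => rw [zero_smul]
  | add c c' _ _ h h' => rw [add_smul, h, h', add_zero]
  | smul r c _ h => rw [smul_eq_mul, mul_smul, h, smul_zero]

end Geo

end K343.BlowKill
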