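import Groth.Agent.Variety.K343.TwistEq
import Groth.Agent.Dual.H328.WUniv
import Groth.Agent.SDiv.K476.HomSh6
import Groth.Agent.Desc.FinLocFreeSections
import Groth.Agent.PerfA.CohSerre
import Groth.Agent.Ega1.IdealGen

/-!
# The determinant of a modification of locally free modules

If `F ⟶ F' ⟶ i_* G ⟶ 0` is exact on a normal integral scheme with `F`, `F'` locally free of rank `n`, and `G`
locally free of rank `s` on the integral effective Cartier divisor `D`, then `det F' ≅ det F ⊗ O(D)^{⊗ s}`.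
-/

set_option autoImplicit false
set_option backward.isDefEq.respectTransparency false

universe u

noncomputable section

open CategoryTheory CategoryTheory.Limits AlgebraicGeometry TopologicalSpace Opposite
open RefHull K475.GenStalk K476.ExtStalk K476.TensStalk Groth.Agent.CycB.ModStalk K476.WedgeD
open K476.DivSec K476.RegRef K476.ModTwist K476.DivPt K476.ModTwist2
open Groth.Agent

namespace K343.DetTwist

variable {X : Scheme.{u}}

theorem isReflexive_of_isInvertible {L : X.Modules} (hL : PicF.IsInvertible L) :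
    RefHull.IsReflexive L := by
  have hf : ∀ {L : X.Modules}, PicF.IsInvertible L → FlatMod.IsFinLocFree L := fun h =>
    Ega2.QCohLocal.isFinLocFree_of_rank (Ega2.QCohLocal.isFinLocFreeOfRank_one_iff.mpr h)
  change IsIso (RefHull.bidualMap L)
  refine K476.HomSh4.isIso_of_stalk _ fun x => ?_
  rw [K476.HomSh4.bijective_stalkMapₗ_bidualMap_iff
    (Desc.FinLocFreeSections.isFP_of_isFinLocFree (hf hL))
    (Desc.FinLocFreeSections.isFP_of_isFinLocFree (hf (K476.HomSh6.isInvertible_dual hL)))]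
  obtain ⟨t, ht⟩ := CycB.ModStalk.exists_isGen hL x
  let e : X.presheaf.stalk x ≃ₗ[X.presheaf.stalk x] L.presheaf.stalk x :=
    LinearEquiv.ofBijective (LinearMap.toSpanSingleton _ _ t) ht
  have h1 : Module.Free (X.presheaf.stalk x) (L.presheaf.stalk x) := Module.Free.of_equiv e
  have h2 : Module.Finite (X.presheaf.stalk x) (L.presheaf.stalk x) := Module.Finite.equiv e
  infer_instance

theorem nonempty_ddual {L : X.Modules} (hL : PicF.IsInvertible L) : Nonempty (L ≅ ddual L) := by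
  have : IsIso (RefHull.bidualMap L) := isReflexive_of_isInvertible hL
  exact ⟨asIso (RefHull.bidualMap L)⟩

def tpowIso {L M : X.Modules} (e : L ≅ M) : ∀ n : ℕ, CohB1.tensorPow L n ≅ CohB1.tensorPow M n
  | 0 => Iso.refl _
  | n + 1 => Ega2.Tens.mapTIso (tpowIso e n) e

theorem isCoh_of_rank {n : ℕ} {M : X.Modules} (h : FlatMod.IsFinLocFreeOfRank n M) :
    Coh.IsCoh M :=
  Groth.Agent.PerfA.CohSerre.isCoh_of_isFinLocFree (Ega2.QCohLocal.isFinLocFree_of_rank h)

theorem isTorsionFree_of_rank [IsIntegral X] {n : ℕ} {M : X.Modules}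
    (h : FlatMod.IsFinLocFreeOfRank n M) (x : X) :
    Module.IsTorsionFree (X.presheaf.stalk x) (M.presheaf.stalk x) := by
  obtain ⟨β⟩ := exists_basis_stalk h x
  have := Module.Free.of_basis β
  infer_instance

/-- The determinant of a modification. -/
theorem nonempty_iso [IsIntegral X] [IsLocallyNoetherian X] (hX : Pi1.IsNormalScheme X) {n s : ℕ}
    {F F' L L' : X.Modules} (hF : FlatMod.IsFinLocFreeOfRank n F)
    (hF' : FlatMod.IsFinLocFreeOfRank n F')
    {𝓓 : X.IdealSheafData} (hD : BlowUp.IsEffCartierIdeal 𝓓) [IsIntegral 𝓓.subscheme]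
    (G : (𝓓.subscheme).Modules) (hG : FlatMod.IsFinLocFreeOfRank s G)
    (a : F ⟶ F') (b : F' ⟶ (Scheme.Modules.pushforward 𝓓.subschemeι).obj G) (w : a ≫ b = 0)
    (hex : (ShortComplex.mk a b w).Exact) (hb : Epi b)
    (hL : ExtPow.IsExtPow n F L) (hL' : ExtPow.IsExtPow n F' L')
    (M : X.Modules) (hM : ClSub.IsInverseOf M (ClSub.idealMod 𝓓)) :
    Nonempty (L' ≅ CohB1.tensorMod L (CohB1.tensorPow M s)) := by
  have cF := isCoh_of_rank hF
  have cF' := isCoh_of_rank hF'
  have hr : ∀ {F : X.Modules}, FlatMod.IsFinLocFreeOfRank n F →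
      Module.finrank (X.presheaf.stalk (η X)) (F.presheaf.stalk (η X)) = n := fun {F} h => by
    obtain ⟨β⟩ := exists_basis_stalk h (η X)
    exact (Module.finrank_eq_card_basis β).trans (Fintype.card_fin _)
  have hInj : Inj F' := inj_of_isTorsionFree cF'.1 (isTorsionFree_of_rank hF')
  obtain ⟨hα, h⟩ := K343.TwistEq.exists_twist hX cF cF' hD s G hG a b w hex hb (hr hF) (hr hF')
    (hInj _)
  obtain ⟨β⟩ := exists_basis_eta cF (hr hF)
  have iL := Dual.H328.WUniv.isInvertible_extPow hF hL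
  have iL' := Dual.H328.WUniv.isInvertible_extPow hF' hL'
  have iD := Ega1.IdealGen.isInvertible_idealMod _ hD
  obtain ⟨eL⟩ := nonempty_ddual iL
  obtain ⟨eL'⟩ := nonempty_ddual iL'
  obtain ⟨eM⟩ := hM
  obtain ⟨d⟩ := K476.HomSh6.nonempty_iso_dual iD (Ega2.Tens.swap _ _ ≪≫ eM)
  have hR : IsReflexive (CohB1.tensorMod (ddual L)
      (CohB1.tensorPow (dual (ClSub.idealMod 𝓓)) s)) := by
    refine K476.RegRef.isReflexive_of_isGen ?_ (fun x => ?_)
    · exact K476.Ref1.isCoh_tensorMod (K476.HomSh4.isCoh_ddual (isCoh_of_isExtPow cF hL))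
        (K476.RegRef.isCoh_tensorPow (K476.HomSh4.isCoh_dual (K476.DivSec.isCoh_idealMod 𝓓)) s)
    · obtain ⟨t, ht⟩ := CycB.ModStalk.exists_isGen (K476.HomSh6.isInvertible_of_iso eL iL) x
      obtain ⟨V, hxV, f, δ, -, -, hδ, -⟩ := K476.DivSec.exists_local hD x
      exact ⟨_, K476.TensStalk.isGen_stmul ht (K476.RegRef.isGen_tpow hδ s)⟩
  obtain ⟨e⟩ := K476.ModTwist.nonempty_iso hX cF cF' a hα β hD hL hL' hR h
  exact ⟨eL' ≪≫ e ≪≫ Ega2.Tens.mapTIso eL.symm (tpowIso d.symm s)⟩

end K343.DetTwist
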