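import Groth.Prelude.Def_Canon
import Groth.Agent.Variety.K343.DetTwist
import Groth.Agent.Variety.K343.BlowKill
import Groth.Agent.Variety.K343.BlowInt
import Groth.Agent.Omega.K935.SmoothImm
import Groth.Agent.Cyc.K308.PBBasic
import Groth.Agent.Krr.H496.ExcBundle
import Groth.Agent.Vancyc.H878.RelOmega
import Groth.Agent.Vancyc.H878.Triv
import Groth.Agent.Lefpen.H709.Geo
import Groth.Agent.Dual.H339.OmegaRank
import Groth.Agent.OmegaSh.K583.ExtPowPull
import Groth.Agent.Picfga.CurveRelDim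
import Groth.Agent.Flat2C.BlowProper
import Groth.Agent.Synt.K561.CotComp
import Groth.Agent.Sga5.SmoothField
import Groth.Agent.S5005
import Groth.Agent.S5975

/-!
# The canonical sheaf of the blow-up of a smooth centre

`X` smooth of relative dimension `n` over a field `k`, integral, `i : Z ⟶ X` a closed immersion with `Z` integral
smooth of relative dimension `d` over `k`, `d + r = n`, `r ≥ 1`, `b : X' ⟶ X` the blow-up of `Z`. Then
`ω_{X'} ≅ b^* ω_X ⊗ O(E)^{⊗ (r - 1)}`.
-/

set_option autoImplicit false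

universe u

noncomputable section

open CategoryTheory CategoryTheory.Limits AlgebraicGeometry TopologicalSpace Opposite OmegaSh
open BlowUp K583.DerFunct
open Groth.Agent

namespace K343.CanonBlow

variable {X X' Z : Scheme.{u}}

theorem isFinLocFreeOfRank_of_iso {X : Scheme.{u}} {M N : X.Modules} {n : ℕ} (e : M ≅ N)
    (h : FlatMod.IsFinLocFreeOfRank n M) : FlatMod.IsFinLocFreeOfRank n N := fun x => by
  obtain ⟨U, hx, ⟨f⟩⟩ := h x
  exact ⟨U, hx, ⟨(Scheme.Modules.restrictFunctor U.ι).mapIso e.symm ≪≫ f⟩⟩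

theorem exact_comp_iso {C : Type*} [Category C] [Abelian C] {P Q R R' : C} {a : P ⟶ Q} {q : Q ⟶ R}
    (w : a ≫ q = 0) (h : (ShortComplex.mk a q w).Exact) (u : R ⟶ R') [IsIso u]
    (w' : a ≫ q ≫ u = 0) : (ShortComplex.mk a (q ≫ u) w').Exact := by
  let e : ShortComplex.mk a q w ≅ ShortComplex.mk a (q ≫ u) w' :=
    ShortComplex.isoMk (Iso.refl _) (Iso.refl _) (asIso u) (by simp) (by simp)
  exact (ShortComplex.exact_iff_of_iso e).mp h

/-- `b^* Ω_X ⟶ Ω_{X'} ⟶ i_* i^* Ω_{X'/X} ⟶ 0` is exact, for any modules of differentials. -/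
theorem exists_exact_of_universal {S : Scheme.{u}} (f : X ⟶ S) {I : X.IdealSheafData}
    {b : X' ⟶ X} (hb : IsBlowUp b I) {ΩX : X.Modules} {dX : Der f ΩX} (hX : IsUniversal dX)
    {ΩX' : X'.Modules} {dX' : Der (b ≫ f) ΩX'} (hX' : IsUniversal dX') {Ωb : X'.Modules}
    {db : Der b Ωb} (hb' : IsUniversal db) :
    ∃ (a : (Scheme.Modules.pullback b).obj ΩX ⟶ ΩX')
      (p : ΩX' ⟶ (Scheme.Modules.pushforward (I.comap b).subschemeι).obj
        ((Scheme.Modules.pullback (I.comap b).subschemeι).obj Ωb)) (w : a ≫ p = 0),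
      (ShortComplex.mk a p w).Exact ∧ Epi p := by
  let c₁ := diffMap (f := f) (f' := b ≫ f) (h := b) (b := 𝟙 S) (by rw [Category.comp_id]) hX dX'
  have hc₁ : IsDiffCompat b dX dX' c₁ := isDiffCompat_diffMap _ hX _
  let c₂ := diffMap (f := b ≫ f) (f' := b) (h := 𝟙 X') (b := f) (by rw [Category.id_comp]) hX' db
  have hc₂ : IsDiffCompat (𝟙 X') dX' db c₂ := isDiffCompat_diffMap _ hX' _
  obtain ⟨hepi, him⟩ := S5975.result b f _ _ hX _ _ hX' _ _ hb' c₁ hc₁ c₂ hc₂
  have hw := K561.CotComp.comp_eq_zero him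
  have hk : Ega1.ClosedKill.Kills (I.comap b).subschemeι.ker Ωb := by
    rw [Scheme.IdealSheafData.ker_subschemeι]
    exact K343.BlowKill.kills hb hb'
  have hu := hk.isIso_unit
  let u := (Scheme.Modules.pullbackPushforwardAdjunction (I.comap b).subschemeι).unit.app Ωb
  have hu' : IsIso u := hu
  let q := (Scheme.Modules.pullbackId X').inv.app ΩX' ≫ c₂
  have hq : Epi q := inferInstance
  refine ⟨c₁, q ≫ u, ?_, ?_, ?_⟩
  · rw [← Category.assoc, hw, zero_comp]
  · have h1 : (ShortComplex.mk c₁ _ hw).Exact :=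
      (ShortComplex.exact_iff_image_eq_kernel _).mpr him
    exact exact_comp_iso _ h1 u _
  · exact epi_comp q u

/-- `b^* Ω_X ⟶ Ω_{X'} ⟶ i_* i^* Ω_{X'/X} ⟶ 0` is exact. -/
theorem exists_exact {S : Scheme.{u}} (f : X ⟶ S) [QuasiSeparated f] {I : X.IdealSheafData}
    {b : X' ⟶ X} [QuasiSeparated b] (hb : IsBlowUp b I) :
    ∃ (a : (Scheme.Modules.pullback b).obj (Omega.sheaf f) ⟶ Omega.sheaf (b ≫ f))
      (p : Omega.sheaf (b ≫ f) ⟶ (Scheme.Modules.pushforward (I.comap b).subschemeι).obj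
        ((Scheme.Modules.pullback (I.comap b).subschemeι).obj (Omega.sheaf b))) (w : a ≫ p = 0),
      (ShortComplex.mk a p w).Exact ∧ Epi p :=
  exists_exact_of_universal f hb (S5005.result f) (S5005.result (b ≫ f)) (S5005.result b)

/-- The relative differentials of the exceptional divisor. -/
theorem isFinLocFreeOfRank_pullback {S : Scheme.{u}} (f : X ⟶ S) [QuasiSeparated f] {d r n : ℕ}
    [hf : SmoothOfRelativeDimension n f] (i : Z ⟶ X) [IsClosedImmersion i]
    [hi : SmoothOfRelativeDimension d (i ≫ f)] (hd : d + (r + 1) = n) {b : X' ⟶ X}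
    (hb : IsBlowUp b i.ker) [QuasiSeparated b] :
    FlatMod.IsFinLocFreeOfRank r
      ((Scheme.Modules.pullback (i.ker.comap b).subschemeι).obj (Omega.sheaf b)) := by
  obtain ⟨ψ, H⟩ := K343.BlowInt.exists_isPullback i b
  have h1 : Smooth f := SmoothOfRelativeDimension.smooth n f
  have h2 : Smooth (i ≫ f) := SmoothOfRelativeDimension.smooth d (i ≫ f)
  have h3 : FlatMod.IsFinLocFreeOfRank (r + 1) (Omega.conormal i) :=
    _root_.K935.SmoothImm.isFinLocFreeOfRank_conormal i f hd
      (Dual.H339.OmegaRank.isFinLocFreeOfRank_omega n f)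
      (Dual.H339.OmegaRank.isFinLocFreeOfRank_omega d (i ≫ f))
  have hreg := _root_.K935.SmoothImm.isRegularClosedImmersion i f
  have hP := Krr.H496.ExcBundle.isProjBundle_exc hreg hb H
  have h4 : SmoothOfRelativeDimension r ψ := _root_.K308.PB.smoothOfRelativeDimension h3 hP
  have h5 : QuasiSeparated ψ := MorphismProperty.of_isPullback H inferInstance
  exact isFinLocFreeOfRank_of_iso (Vancyc.H878.RelOmega.omegaBC H).symm
    (Dual.H339.OmegaRank.isFinLocFreeOfRank_omega r ψ)

/-- **The canonical sheaf of the blow-up of a smooth centre** (over a field, any smooth integral centre of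
codimension `r + 1`). -/
theorem main {k : Type u} [Field k] (f : X ⟶ Spec (CommRingCat.of k)) [QuasiSeparated f]
    [IsIntegral X] {d r n : ℕ} [hf : SmoothOfRelativeDimension n f] (i : Z ⟶ X)
    [IsClosedImmersion i] [IsIntegral Z] [hi : SmoothOfRelativeDimension d (i ≫ f)]
    (hd : d + (r + 1) = n) {b : X' ⟶ X} (hb : IsBlowUp b i.ker)
    (h1 : (1 : WithBot ℕ∞) ≤ ringKrullDim (X.presheaf.stalk (i (genericPoint Z))))
    (M : X'.Modules) (hM : ClSub.IsInverseOf M (ClSub.idealMod (exceptional b i.ker)))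
    (W : X.Modules) (hW : Canon.IsTopDiff f n W)
    (W' : X'.Modules) (hW' : Canon.IsTopDiff (b ≫ f) n W') :
    Nonempty (W' ≅ CohB1.tensorMod ((Scheme.Modules.pullback b).obj W)
      (CohB1.tensorPow M r)) := by
  have hs : Smooth f := SmoothOfRelativeDimension.smooth n f
  have hs' : Smooth (i ≫ f) := SmoothOfRelativeDimension.smooth d (i ≫ f)
  have hnoeth : IsLocallyNoetherian X := Sga5.SmoothField.isLocallyNoetherian f
  have hX := Sga5.SmoothField.isRegularLocalRing_stalk f
  have hZ := Sga5.SmoothField.isRegularLocalRing_stalk (i ≫ f)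
  have hprop : IsProper b := Flat2C.BlowProper.isProper_of_isBlowUp hb
    (K484.PicBlowMain.isFiniteTypeIdeal _)
  have hnoeth' : IsLocallyNoetherian X' := LocallyOfFiniteType.isLocallyNoetherian b
  have hint : IsIntegral X' := K343.BlowInt.isIntegral_blowUp i h1 b hb
  have hE : IsIntegral (i.ker.comap b).subscheme :=
    K343.BlowInt.isIntegral_exceptional i h1 b hb hX hZ
  have hX' := K484.PicBlowMain.regular_of_isBlowUp hX i hZ hb
  have hn : Pi1.IsNormalScheme X' := K476.RegRef.isNormalScheme_of_regular hX'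
  obtain ⟨a, p, w, hex, hp⟩ := exists_exact f hb
  have hG := isFinLocFreeOfRank_pullback f i hd hb
  have hΩ := Dual.H339.OmegaRank.isFinLocFreeOfRank_omega n f
  have hZ' : SmoothOfRelativeDimension d (i.ker.subschemeι ≫ f) := by
    have h2 : i.ker.subschemeι ≫ f = inv i.toImage ≫ i ≫ f := by
      rw [IsIso.eq_inv_comp]
      exact congrArg (· ≫ f) i.toImage_imageι
    rw [h2]
    exact Lefpen.H709.Geo.smoothOfRelDim_etale_comp _ _ d
  have hbs : SmoothOfRelativeDimension n (b ≫ f) := by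
    have h2 : n = d + (r + 1) := hd.symm
    subst h2
    exact Lefpen.H709.Geo.smooth_blowUp f i.ker d r hf hZ' hb
  have hΩ' := Dual.H339.OmegaRank.isFinLocFreeOfRank_omega n (b ≫ f)
  have hF := Vancyc.H878.Triv.isFinLocFreeOfRank_pullback b hΩ
  exact K343.DetTwist.nonempty_iso hn hF hΩ' hb.1 _ hG a p w hex hp
    (K583.ExtPowPull.isExtPow_pullback b (K343.DetTwist.isCoh_of_rank hΩ).1 hW) hW' M hM

end K343.CanonBlow
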