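import Groth.Agent.SDiv.K476.ModTwist2

/-!
# Modifications along an integral effective Cartier divisor: the exact twist

If `F ⟶ F' ⟶ i_* G ⟶ 0` is exact, `F'` is torsion free and `G` is locally free of rank `s` on the integral
effective Cartier divisor `D`, then the elementary divisors of `F ⟶ F'` multiply to the `s`-th power of a local
equation of `D` (the inequality `≤ s` is `K476.ModTwist2.exists_twist`).
-/

set_option autoImplicit false
set_option backward.isDefEq.respectTransparency false

universe u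

noncomputable section

open CategoryTheory CategoryTheory.Limits AlgebraicGeometry TopologicalSpace Opposite
open RefHull K475.GenStalk K476.ExtStalk K476.TensStalk Groth.Agent.CycB.ModStalk K476.WedgeD
open K476.DivSec K476.RegRef K476.ModTwist K476.DivPt K476.ModTwist2
open Groth.Agent.Fdesc.PullbackStalk Groth.Agent.Ega1.ClosedUnit

namespace K343.TwistEq

variable {X : Scheme.{u}} [IsIntegral X] [IsLocallyNoetherian X] {r : ℕ} {F F' : X.Modules}

/-- The number of elementary divisors which are not units is at least the rank of `G`. -/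
theorem le_card {𝓓 : X.IdealSheafData} (ζ : 𝓓.subscheme) (s : ℕ)
    (G : (𝓓.subscheme).Modules) (hG : FlatMod.IsFinLocFreeOfRank s G)
    (a : F ⟶ F') (b : F' ⟶ (Scheme.Modules.pushforward 𝓓.subschemeι).obj G)
    (hab : ∀ p, stalkMapₗ b (𝓓.subschemeι ζ) (stalkMapₗ a (𝓓.subschemeι ζ) p) = 0)
    (hb : Function.Surjective (stalkMapₗ b (𝓓.subschemeι ζ)))
    (hinj : Function.Injective (F'.presheaf.stalkSpecializes (spec (𝓓.subschemeι ζ))))
    (e : Fin r → F.presheaf.stalk (𝓓.subschemeι ζ))
    (e' : Fin r → F'.presheaf.stalk (𝓓.subschemeι ζ))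
    (c : Fin r → X.presheaf.stalk (𝓓.subschemeι ζ))
    (he' : SpansAt F' (𝓓.subschemeι ζ) e')
    (hc : ∀ j, F'.presheaf.stalkSpecializes (spec (𝓓.subschemeι ζ)) (stalkMapₗ a _ (e j)) =
      F'.presheaf.stalkSpecializes (spec (𝓓.subschemeι ζ)) (c j • e' j)) :
    s ≤ Nat.card {j // ¬ IsUnit (c j)} := by
  classical
  obtain ⟨β⟩ := exists_basis_stalk hG ζ
  let J := {j // ¬ IsUnit (c j)}
  let i := 𝓓.subschemeι
  have hpb := pushAdd_bijective i i.isClosedEmbedding.isInducing G ζ
  let v : J → G.presheaf.stalk ζ := fun j => pushAdd i G ζ (stalkMapₗ b (i ζ) (e' j.1))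
  have h0 : ∀ j, IsUnit (c j) → stalkMapₗ b (i ζ) (e' j) = 0 := by
    intro j hj
    have h1 : stalkMapₗ a (i ζ) (e j) = c j • e' j := hinj (hc j)
    have h2 := hab (e j)
    rw [show stalkMapₗ a (𝓓.subschemeι ζ) (e j) = c j • e' j from h1, map_smul] at h2
    exact (hj.smul_eq_zero).mp h2
  have hspan : Submodule.span (𝓓.subscheme.presheaf.stalk ζ) (Set.range v) = ⊤ := by
    rw [eq_top_iff]
    intro w _
    obtain ⟨t, rfl⟩ := hpb.2 w
    obtain ⟨p', rfl⟩ := hb t
    obtain ⟨τ, hτ⟩ := he' p'
    have h3 : p' = ∑ j, τ j • e' j := hinj hτ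
    rw [h3, map_sum, map_sum]
    refine Submodule.sum_mem _ (fun j _ => ?_)
    rw [map_smul, show pushAdd i G ζ (τ j • stalkMapₗ b (i ζ) (e' j)) = _ from
      pushAdd_smul i G ζ (τ j) (stalkMapₗ b (i ζ) (e' j))]
    by_cases hj : IsUnit (c j)
    · rw [h0 j hj, map_zero, smul_zero]
      exact Submodule.zero_mem _
    · exact Submodule.smul_mem _ _ (Submodule.subset_span ⟨⟨j, hj⟩, rfl⟩)
  have h7 := finrank_range_le_card (R := 𝓓.subscheme.presheaf.stalk ζ) v
  rw [Set.finrank, hspan, finrank_top, Module.finrank_eq_card_basis β, Fintype.card_fin] at h7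
  rw [Nat.card_eq_fintype_card]
  exact h7

/-- The exact twist of a modification along an integral effective Cartier divisor. -/
theorem exists_twist (hX : Pi1.IsNormalScheme X) (hF : Coh.IsCoh F) (hF' : Coh.IsCoh F')
    {𝓓 : X.IdealSheafData} (hD : BlowUp.IsEffCartierIdeal 𝓓) [IsIntegral 𝓓.subscheme] (s : ℕ)
    (G : (𝓓.subscheme).Modules) (hG : FlatMod.IsFinLocFreeOfRank s G)
    (a : F ⟶ F') (b : F' ⟶ (Scheme.Modules.pushforward 𝓓.subschemeι).obj G) (w : a ≫ b = 0)
    (hex : (ShortComplex.mk a b w).Exact) (hb : Epi b)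
    (hr : Module.finrank (X.presheaf.stalk (η X)) (F.presheaf.stalk (η X)) = r)
    (hr' : Module.finrank (X.presheaf.stalk (η X)) (F'.presheaf.stalk (η X)) = r)
    (hinj : Function.Injective (F'.presheaf.stalkSpecializes
      (spec (𝓓.subschemeι (genericPoint 𝓓.subscheme))))) :
    Function.Bijective (stalkMapₗ a (η X)) ∧
      ∀ x : X, ringKrullDim (X.presheaf.stalk x) = 1 → TwistAt a 𝓓 r s x := by
  have hexx : ∀ x, Function.Exact (stalkMapₗ a x) (stalkMapₗ b x) := fun x => by
    rw [K476.HomSh1.stalkMapₗ_eq, K476.HomSh1.stalkMapₗ_eq]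
    exact Groth.Agent.CycB.StalkExact.stalkLin_exact _ hex x
  have hbx : ∀ x, Function.Surjective (stalkMapₗ b x) := fun x => by
    rw [K476.HomSh1.stalkMapₗ_eq]
    exact Groth.Agent.CycB.StalkExact.stalkLin_surjective b x
  have hsurj : ∀ x, x ∉ Set.range 𝓓.subschemeι → Function.Surjective (stalkMapₗ a x) := by
    intro x hx p'
    have h1 : Subsingleton (((Scheme.Modules.pushforward 𝓓.subschemeι).obj G).presheaf.stalk x) :=
      Groth.Agent.CycB.PushStalk.subsingleton_stalk_push _ G x (by
        rwa [𝓓.subschemeι.isClosedEmbedding.isClosed_range.closure_eq])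
    exact ((hexx x) p').mp (Subsingleton.elim _ _)
  have hα : Function.Bijective (stalkMapₗ a (η X)) := by
    let i2 := K475.Codim1.ffModule F
    let j2 := K475.Codim1.ffModule F'
    have i6 : Module.Finite X.functionField (F.presheaf.stalk (η X)) :=
      Groth.Agent.Divis.StalkMod.finite_stalk hF (η X)
    have j6 : Module.Finite X.functionField (F'.presheaf.stalk (η X)) :=
      Groth.Agent.Divis.StalkMod.finite_stalk hF' (η X)
    let α : F.presheaf.stalk (η X) →ₗ[X.functionField] F'.presheaf.stalk (η X) :=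
      stalkMapₗ a (η X)
    have hs : Function.Surjective α := hsurj _ (eta_notMem_range hD)
    have h1 : Module.finrank X.functionField (F.presheaf.stalk (η X)) =
        Module.finrank X.functionField (F'.presheaf.stalk (η X)) := hr.trans hr'.symm
    exact ⟨(LinearMap.injective_iff_surjective_of_finrank_eq_finrank h1).mpr hs, hs⟩
  refine ⟨hα, fun x hx => ?_⟩
  set ζ := genericPoint 𝓓.subscheme with hζ
  have hp1 : ∀ x : X, ringKrullDim (X.presheaf.stalk x) = 1 →
      IsPrincipalIdealRing (X.presheaf.stalk x) := fun x hx => by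
    have := K476.Ref1.isDVR_of_dim_one hX x hx
    infer_instance
  by_cases hxD : x ∈ Set.range 𝓓.subschemeι
  · obtain rfl := eq_genPt hD hxD hx
    obtain ⟨e, e', c, he, he', hc0, hc, hdvd, hcard, hass⟩ :=
      exists_smithAt hF hF' a hα hr' (𝓓.subschemeι ζ) (hp1 _ hx)
    have hk : Nat.card {j // ¬ IsUnit (c j)} = s := by
      apply le_antisymm
      · obtain ⟨β⟩ := exists_basis_stalk hG ζ
        obtain ⟨g, hg⟩ := exists_gen_push 𝓓.subschemeι G ζ s β
        choose g' hg' using fun i => hbx (𝓓.subschemeι ζ) (g i)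
        refine hcard s g' (fun p' => ?_)
        obtain ⟨t, ht⟩ := hg (stalkMapₗ b (𝓓.subschemeι ζ) p')
        have h1 : stalkMapₗ b (𝓓.subschemeι ζ) (p' - ∑ i, t i • g' i) = 0 := by
          rw [map_sub, ht, map_sum, sub_eq_zero]
          exact Finset.sum_congr rfl (fun i _ => by rw [map_smul, hg'])
        obtain ⟨p, hp⟩ := ((hexx (𝓓.subschemeι ζ)) _).mp h1
        exact ⟨t, p, by rw [hp]; abel⟩
      · exact le_card _ s G hG a b (fun p => ((hexx (𝓓.subschemeι ζ)) _).mpr ⟨p, rfl⟩)
          (hbx _) hinj e e' c he' hc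
    obtain ⟨U, hxU, f, δ, -, hU, hδ, hf⟩ := exists_local hD (𝓓.subschemeι ζ)
    refine ⟨e, e', c, _, δ, he, he', hc0, hc, hδ, hf, ?_⟩
    rw [← hk]
    refine hass _ (fun p' => ?_) ?_
    · have h1 : stalkMapₗ b (𝓓.subschemeι ζ) (X.presheaf.germ U.1 _ hxU f • p') = 0 := by
        rw [map_smul]
        refine smul_push_eq_zero 𝓓.subschemeι G ζ
          (Field.toIsField 𝓓.subscheme.functionField) _ ?_ _
        rw [maximalIdeal_eq hxU hU]
        exact Ideal.mem_span_singleton_self _
      exact ((hexx (𝓓.subschemeι ζ)) _).mp h1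
    · have := K476.Ref1.isDVR_of_dim_one hX _ hx
      exact (IsDiscreteValuationRing.irreducible_iff_uniformizer _).mpr (maximalIdeal_eq hxU hU)
  · exact twistAt_of_surjective hF hF' a hα hr' hD _ x (hp1 x hx) hxD (hsurj x hxD)

end K343.TwistEq
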